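import Cfsg.Prelude.Def_Spor_Th
import Cfsg.Agent.Lib.CGT.Pres
import Cfsg.Agent.Lib.Th.TC1
import Cfsg.Agent.Lib.Th.Th78G
/-! Order bounds for the three sub-presentations of the presented Thompson group -/
set_option autoImplicit false
set_option maxRecDepth 100000
namespace H78.Th
open H54 Cfsg.Spor
def R : List (List ℕ) := [[0, 0],
  [2, 2],
  [4, 4],
  [6, 6],
  [8, 8],
  [0, 2, 0, 2, 0, 2],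
  [0, 8, 0, 8],
  [2, 4, 2, 4, 2, 4],
  [2, 6, 2, 6],
  [2, 8, 2, 8],
  [0, 6, 4, 6, 4, 6, 4, 6, 4],
  [4, 8, 4, 8],
  [6, 8, 6, 8, 6, 8],
  [2, 4, 6, 8, 2, 4, 6, 8, 2, 4, 6, 8, 2, 4, 6, 8, 2, 4, 6, 8, 2, 4, 6, 8, 2, 4, 6, 8, 2, 4, 6, 8],
  [10, 10, 10, 10, 10, 10, 10],
  [11, 0, 10, 0],
  [11, 2, 10, 2],
  [11, 4, 10, 4],
  [10, 6, 10, 6],
  [8, 11, 8, 11, 11, 8, 10, 10, 10],
  [12, 12, 12],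
  [13, 0, 12, 0],
  [13, 2, 12, 2],
  [13, 4, 12, 4],
  [13, 6, 12, 6],
  [13, 8, 12, 8],
  [13, 10, 12, 11, 11],
  [14, 14, 4, 0],
  [15, 0, 14, 0],
  [15, 4, 14, 4],
  [15, 8, 14, 8],
  [6, 8, 15, 6, 14, 6, 8, 15, 6, 14],
  [15, 2, 4, 0, 2, 14, 2, 0, 4, 2, 8],
  [6, 15, 6, 2, 4, 0, 2, 6, 14, 6, 2, 0, 4, 2, 4, 8, 6, 15, 6, 2, 4, 0, 2, 8, 15],
  [15, 12, 14, 12],
  [8, 11, 11, 15, 10, 10, 8, 11, 11, 14, 10, 10],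
  [0, 4, 11, 15, 11, 15, 11, 15],
  [0, 4, 11, 15, 10, 14, 11, 15, 10, 14, 11, 15, 10, 14, 11, 15, 10, 14],
  [6, 11, 11, 14, 10, 10, 6, 11, 11, 14, 10, 10, 6, 11, 11, 14, 10, 10, 6, 11, 11, 14, 8, 6, 4, 6, 8, 10, 10, 10, 8, 6, 4, 6, 8, 11, 6, 4, 6, 4, 0]]
def RB : List (List ℕ) := [[0, 0],
  [2, 2],
  [4, 4],
  [6, 6],
  [0, 6, 0, 6],
  [0, 4, 2, 4, 2, 4, 2, 4, 2],
  [2, 6, 2, 6],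
  [4, 6, 4, 6, 4, 6],
  [8, 8, 8],
  [9, 0, 8, 0],
  [9, 2, 8, 2],
  [9, 4, 8, 4],
  [9, 6, 8, 6]]
def R12 : List (List ℕ) := [[0, 0],
  [2, 2],
  [4, 4],
  [6, 6],
  [8, 8],
  [0, 2, 0, 2, 0, 2],
  [0, 8, 0, 8],
  [2, 4, 2, 4, 2, 4],
  [2, 6, 2, 6],
  [2, 8, 2, 8],
  [0, 6, 4, 6, 4, 6, 4, 6, 4],
  [4, 8, 4, 8],
  [6, 8, 6, 8, 6, 8],
  [2, 4, 6, 8, 2, 4, 6, 8, 2, 4, 6, 8, 2, 4, 6, 8, 2, 4, 6, 8, 2, 4, 6, 8, 2, 4, 6, 8, 2, 4, 6, 8],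
  [10, 10, 10],
  [11, 0, 10, 0],
  [11, 2, 10, 2],
  [11, 4, 10, 4],
  [11, 6, 10, 6],
  [11, 8, 10, 8]]
def R1 : List (List ℕ) := [[0, 0],
  [2, 2],
  [4, 4],
  [6, 6],
  [8, 8],
  [0, 2, 0, 2, 0, 2],
  [0, 8, 0, 8],
  [2, 4, 2, 4, 2, 4],
  [2, 6, 2, 6],
  [2, 8, 2, 8],
  [0, 6, 4, 6, 4, 6, 4, 6, 4],
  [4, 8, 4, 8],
  [6, 8, 6, 8, 6, 8],
  [2, 4, 6, 8, 2, 4, 6, 8, 2, 4, 6, 8, 2, 4, 6, 8, 2, 4, 6, 8, 2, 4, 6, 8, 2, 4, 6, 8, 2, 4, 6, 8],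
  [10, 10, 10, 10, 10, 10, 10],
  [11, 0, 10, 0],
  [11, 2, 10, 2],
  [11, 4, 10, 4],
  [10, 6, 10, 6],
  [8, 11, 8, 11, 11, 8, 10, 10, 10],
  [12, 12, 12],
  [13, 0, 12, 0],
  [13, 2, 12, 2],
  [13, 4, 12, 4],
  [13, 6, 12, 6],
  [13, 8, 12, 8],
  [13, 10, 12, 11, 11]]
def R2 : List (List ℕ) := [[0, 0],
  [2, 2],
  [4, 4],
  [6, 6],
  [8, 8],
  [0, 2, 0, 2, 0, 2],
  [0, 8, 0, 8],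
  [2, 4, 2, 4, 2, 4],
  [2, 6, 2, 6],
  [2, 8, 2, 8],
  [0, 6, 4, 6, 4, 6, 4, 6, 4],
  [4, 8, 4, 8],
  [6, 8, 6, 8, 6, 8],
  [2, 4, 6, 8, 2, 4, 6, 8, 2, 4, 6, 8, 2, 4, 6, 8, 2, 4, 6, 8, 2, 4, 6, 8, 2, 4, 6, 8, 2, 4, 6, 8],
  [10, 10, 10],
  [11, 0, 10, 0],
  [11, 2, 10, 2],
  [11, 4, 10, 4],
  [11, 6, 10, 6],
  [11, 8, 10, 8],
  [12, 12, 4, 0],
  [13, 0, 12, 0],
  [13, 4, 12, 4],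
  [13, 8, 12, 8],
  [6, 8, 13, 6, 12, 6, 8, 13, 6, 12],
  [13, 2, 4, 0, 2, 12, 2, 0, 4, 2, 8],
  [6, 13, 6, 2, 4, 0, 2, 6, 12, 6, 2, 0, 4, 2, 4, 8, 6, 13, 6, 2, 4, 0, 2, 8, 13],
  [13, 10, 12, 10]]
def RL : List (List ℕ) := [[0, 0],
  [2, 2],
  [0, 2, 0, 2, 0, 2],
  [4, 4, 4, 4, 4, 4, 4],
  [4, 0, 4, 0],
  [2, 5, 2, 5, 5, 2, 4, 4, 4],
  [6, 6, 6],
  [7, 0, 6, 0],
  [7, 2, 6, 2],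
  [7, 4, 6, 5, 5]]
def R13 : List (List ℕ) := [[0, 0],
  [2, 2],
  [4, 4],
  [6, 6],
  [0, 6, 0, 6],
  [0, 4, 2, 4, 2, 4, 2, 4, 2],
  [2, 6, 2, 6],
  [4, 6, 4, 6, 4, 6],
  [8, 8, 8, 8, 8, 8, 8],
  [9, 0, 8, 0],
  [9, 2, 8, 2],
  [8, 4, 8, 4],
  [6, 9, 6, 9, 9, 6, 8, 8, 8],
  [10, 10, 10],
  [11, 0, 10, 0],
  [11, 2, 10, 2],
  [11, 4, 10, 4],
  [11, 6, 10, 6],
  [11, 8, 10, 9, 9],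
  [2, 9, 6, 4, 2, 9, 6, 4, 2, 9, 6, 4, 2, 9, 6, 4, 2, 9, 6, 4, 2, 9, 6, 4, 2, 9, 6, 4, 2, 9, 6, 4, 2, 9, 6, 4]]
def R3 : List (List ℕ) := [[0, 0],
  [2, 2],
  [4, 4],
  [6, 6],
  [0, 6, 0, 6],
  [0, 4, 2, 4, 2, 4, 2, 4, 2],
  [2, 6, 2, 6],
  [4, 6, 4, 6, 4, 6],
  [8, 8, 8, 8, 8, 8, 8],
  [9, 0, 8, 0],
  [9, 2, 8, 2],
  [8, 4, 8, 4],
  [6, 9, 6, 9, 9, 6, 8, 8, 8],
  [10, 10, 10],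
  [11, 0, 10, 0],
  [11, 2, 10, 2],
  [11, 4, 10, 4],
  [11, 6, 10, 6],
  [11, 8, 10, 9, 9],
  [12, 12, 2, 0, 14],
  [13, 0, 12, 0],
  [13, 2, 12, 2],
  [13, 6, 12, 6, 14],
  [4, 6, 13, 4, 12, 4, 6, 13, 4, 12],
  [13, 10, 12, 10],
  [6, 9, 9, 13, 8, 8, 6, 9, 9, 12, 8, 8, 14],
  [0, 2, 9, 13, 9, 13, 9, 13],
  [0, 2, 9, 13, 8, 12, 9, 13, 8, 12, 9, 13, 8, 12, 9, 13, 8, 12, 14],
  [4, 9, 9, 12, 8, 8, 4, 9, 9, 12, 8, 8, 4, 9, 9, 12, 8, 8, 4, 9, 9, 12, 6, 4, 2, 4, 6, 8, 8, 8, 6, 4, 2, 4, 6, 9, 4, 2, 4, 2, 0, 14],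
  [2, 9, 6, 4, 2, 9, 6, 4, 2, 9, 6, 4, 2, 9, 6, 4, 2, 9, 6, 4, 2, 9, 6, 4, 2, 9, 6, 4, 2, 9, 6, 4, 2, 9, 6, 4],
  [14, 14],
  [0, 14, 0, 14],
  [2, 14, 2, 14],
  [4, 14, 4, 14],
  [6, 14, 6, 14],
  [9, 14, 8, 14],
  [11, 14, 10, 14],
  [13, 14, 12, 14]]
theorem bndB : Bnd RB 5 288 :=
  Bnd.tc (bnd_zero []) (n := 288) (fun g ω => T54.Th78B.enum g ω) (by decide) [0, 2, 4, 6, 8, 9] rfl (icol_ge _ rfl)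
    []
    [([8, 9], []),
  ([9, 8], [])]
    (by decide +kernel)
theorem bnd12 : Bnd R12 6 36288 :=
  Bnd.tc bndB (n := 126) (fun g ω => T54.Th78C.enum g ω) (by decide) [0, 2, 4, 6, 8, 10, 11] rfl (icol_ge _ rfl)
    [[0],
  [4],
  [6],
  [8],
  [10]]
    [([10, 11], []),
  ([11, 10], [])]
    (by decide +kernel)
theorem bnd1 : Bnd R1 7 634023936 :=
  Bnd.tc bnd12 (n := 17472) (fun g ω => T54.Th78G.enum g ω) (by decide) [0, 2, 4, 6, 8, 10, 11, 12, 13] rfl (icol_ge _ rfl)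
    [[0],
  [2],
  [4],
  [6],
  [8],
  [12]]
    [([10, 11], []),
  ([11, 10], []),
  ([12, 13], []),
  ([13, 12], [])]
    (by decide +kernel)
theorem bnd2 : Bnd R2 7 25474176 :=
  Bnd.tc bnd12 (n := 702) (fun g ω => T54.Th78D.enum g ω) (by decide) [0, 2, 4, 6, 8, 10, 11, 12, 13] rfl (icol_ge _ rfl)
    [[0],
  [2],
  [4],
  [6],
  [8],
  [10]]
    [([10, 11], []),
  ([11, 10], []),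
  ([12, 13], []),
  ([13, 12], [])]
    (by decide +kernel)
theorem bndL : Bnd RL 4 1512 :=
  Bnd.tc (bnd_zero []) (n := 1512) (fun g ω => T54.Th78L.enum g ω) (by decide) [0, 2, 4, 5, 6, 7] rfl (icol_ge _ rfl)
    []
    [([4, 5], []),
  ([5, 4], []),
  ([6, 7], []),
  ([7, 6], [])]
    (by decide +kernel)
theorem bnd13 : Bnd R13 6 774144 :=
  Bnd.tc bndL (n := 512) (fun g ω => T54.Th78E.enum g ω) (by decide) [0, 2, 4, 6, 8, 9, 10, 11] rfl (icol_ge _ rfl)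
    [[4],
  [6],
  [8],
  [10]]
    [([8, 9], []),
  ([9, 8], []),
  ([10, 11], []),
  ([11, 10], [])]
    (by decide +kernel)
theorem bnd3 : Bnd R3 8 185794560 :=
  Bnd.tc bnd13 (n := 240) (fun g ω => T54.Th78F.enum g ω) (by decide) [0, 2, 4, 6, 8, 9, 10, 11, 12, 13, 14] rfl (icol_ge _ rfl)
    [[0],
  [2],
  [4],
  [6],
  [8],
  [10]]
    [([8, 9], []),
  ([9, 8], []),
  ([10, 11], []),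
  ([11, 10], []),
  ([12, 13], []),
  ([13, 12], [])]
    (by decide +kernel)
def gens : List Th.Gen := [.a, .b, .c, .d, .e, .s, .t, .u]
theorem mem_gens (y : Th.Gen) : y ∈ gens := by cases y <;> decide
/-- the generators -/
abbrev x : ℕ → Th := cgen gens Th.edges Th.extra
theorem pres : Pres R 8 Th x := pres_of_dv mem_gens (by decide)
  (L := [([0, 6, 4, 6, 4, 6, 4, 6, 4], [([], 21), ([0, 7, 5, 7, 5, 7, 5, 7], 5), ([0, 7, 5, 7, 5, 7, 5], 7), ([0, 7, 5, 7, 5, 7], 5), ([0, 7, 5, 7, 5], 7), ([0, 7, 5, 7], 5), ([0, 7, 5], 7), ([0, 7], 5), ([0], 7)]),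
  ([11, 0, 10, 0], [([], 31), ([11], 1)]),
  ([11, 2, 10, 2], [([], 33), ([11], 3)]),
  ([11, 4, 10, 4], [([], 35), ([11], 5)]),
  ([8, 11, 8, 11, 11, 8, 10, 10, 10], [([], 39), ([9, 11, 8, 11, 11], 9), ([], 9)]),
  ([13, 0, 12, 0], [([], 43), ([13], 1)]),
  ([13, 2, 12, 2], [([], 45), ([13], 3)]),
  ([13, 4, 12, 4], [([], 47), ([13], 5)]),
  ([13, 6, 12, 6], [([], 49), ([13], 7)]),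
  ([13, 8, 12, 8], [([], 51), ([13], 9)]),
  ([14, 14, 4, 0], [([], 55), ([14, 14, 5], 1), ([14, 14], 5)]),
  ([15, 0, 14, 0], [([], 57), ([15], 1)]),
  ([15, 4, 14, 4], [([], 59), ([15], 5)]),
  ([15, 8, 14, 8], [([], 61), ([15], 9)]),
  ([15, 2, 4, 0, 2, 14, 2, 0, 4, 2, 8], [([], 65), ([15, 3, 5, 1, 2, 14, 3, 0, 4, 2], 9), ([15, 3, 5, 1, 2, 14], 3), ([15, 3, 5], 1), ([15, 3], 5), ([15], 3)]),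
  ([6, 15, 6, 2, 4, 0, 2, 6, 14, 6, 2, 0, 4, 2, 4, 8, 6, 15, 6, 2, 4, 0, 2, 8, 15], [([], 67), ([7, 15, 6, 3, 5, 1, 2, 7, 14, 6, 3, 0, 4, 2, 5, 9, 7, 15, 6, 3, 5, 1, 2], 9), ([7, 15, 6, 3, 5, 1, 2, 7, 14, 6, 3, 0, 4, 2, 5, 9, 7, 15, 6, 3, 5], 1), ([7, 15, 6, 3, 5, 1, 2, 7, 14, 6, 3, 0, 4, 2, 5, 9, 7, 15, 6, 3], 5), ([7, 15, 6, 3, 5, 1, 2, 7, 14, 6, 3, 0, 4, 2, 5, 9, 7, 15, 6], 3), ([7, 15, 6, 3, 5, 1, 2, 7, 14, 6, 3, 0, 4, 2, 5, 9], 7), ([7, 15, 6, 3, 5, 1, 2, 7, 14, 6, 3, 0, 4, 2, 5], 9), ([7, 15, 6, 3, 5, 1, 2, 7, 14, 6, 3, 0, 4, 2], 5), ([7, 15, 6, 3, 5, 1, 2, 7, 14, 6], 3), ([7, 15, 6, 3, 5, 1, 2], 7), ([7, 15, 6, 3, 5], 1), ([7, 15, 6, 3], 5), ([7, 15, 6], 3), ([], 7)]),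
  ([8, 11, 11, 15, 10, 10, 8, 11, 11, 14, 10, 10], [([], 71), ([], 9)]),
  ([6, 11, 11, 14, 10, 10, 6, 11, 11, 14, 10, 10, 6, 11, 11, 14, 10, 10, 6, 11, 11, 14, 8, 6, 4, 6, 8, 10, 10, 10, 8, 6, 4, 6, 8, 11, 6, 4, 6, 4, 0], [([], 77), ([6, 11, 11, 14, 10, 10, 6, 11, 11, 14, 10, 10, 6, 11, 11, 14, 10, 10, 6, 11, 11, 14, 9, 7, 5, 6, 8, 10, 10, 10, 9, 7, 5, 6, 8, 11, 7, 5, 6, 5], 1), ([6, 11, 11, 14, 10, 10, 6, 11, 11, 14, 10, 10, 6, 11, 11, 14, 10, 10, 6, 11, 11, 14, 9, 7, 5, 6, 8, 10, 10, 10, 9, 7, 5, 6, 8, 11, 7, 5, 6], 5), ([6, 11, 11, 14, 10, 10, 6, 11, 11, 14, 10, 10, 6, 11, 11, 14, 10, 10, 6, 11, 11, 14, 9, 7, 5, 6, 8, 10, 10, 10, 9, 7, 5, 6, 8, 11, 7], 5), ([6, 11, 11, 14, 10, 10, 6, 11, 11, 14, 10, 10, 6, 11, 11, 14, 10, 10, 6, 11, 11, 14, 9, 7,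 5, 6, 8, 10, 10, 10, 9, 7, 5, 6, 8, 11], 7), ([6, 11, 11, 14, 10, 10, 6, 11, 11, 14, 10, 10, 6, 11, 11, 14, 10, 10, 6, 11, 11, 14, 9, 7, 5, 6, 8, 10, 10, 10, 9, 7], 5), ([6, 11, 11, 14, 10, 10, 6, 11, 11, 14, 10, 10, 6, 11, 11, 14, 10, 10, 6, 11, 11, 14, 9, 7, 5, 6, 8, 10, 10, 10, 9], 7), ([6, 11, 11, 14, 10, 10, 6, 11, 11, 14, 10, 10, 6, 11, 11, 14, 10, 10, 6, 11, 11, 14, 9, 7, 5, 6, 8, 10, 10, 10], 9), ([6, 11, 11, 14, 10, 10, 6, 11, 11, 14, 10, 10, 6, 11, 11, 14, 10, 10, 6, 11, 11, 14, 9, 7], 5), ([6, 11, 11, 14, 10, 10, 6, 11, 11, 14, 10, 10, 6, 11, 11, 14, 10, 10, 6, 11, 11, 14, 9], 7), ([6, 11, 11, 14, 10, 10, 6, 11, 11, 14, 10, 10, 6, 11, 11, 14, 10, 10, 6, 11, 11, 14], 9)])])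
  (L' := [([0, 7, 5, 7, 5, 7, 5, 7, 5], [([4, 6, 4, 6, 4, 6, 4], 6), ([4, 6, 4, 6, 4, 6], 4), ([4, 6, 4, 6, 4], 6), ([4, 6, 4, 6], 4), ([4, 6, 4], 6), ([4, 6], 4), ([4], 6), ([], 4), ([], 21)]),
  ([11, 1, 10, 0], [([1, 11], 0), ([], 31)]),
  ([11, 3, 10, 2], [([3, 11], 2), ([], 33)]),
  ([11, 5, 10, 4], [([5, 11], 4), ([], 35)]),
  ([9, 11, 8, 11, 11, 9, 10, 10, 10], [([11, 11, 11, 8, 10, 10, 9, 10], 8), ([11, 11, 11], 8), ([], 39)]),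
  ([13, 1, 12, 0], [([1, 13], 0), ([], 43)]),
  ([13, 3, 12, 2], [([3, 13], 2), ([], 45)]),
  ([13, 5, 12, 4], [([5, 13], 4), ([], 47)]),
  ([13, 7, 12, 6], [([7, 13], 6), ([], 49)]),
  ([13, 9, 12, 8], [([9, 13], 8), ([], 51)]),
  ([14, 14, 5, 1], [([0], 4), ([], 0), ([], 55)]),
  ([15, 1, 14, 0], [([1, 15], 0), ([], 57)]),
  ([15, 5, 14, 4], [([5, 15], 4), ([], 59)]),
  ([15, 9, 14, 8], [([9, 15], 8), ([], 61)]),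
  ([15, 3, 5, 1, 2, 14, 3, 0, 4, 2, 9], [([8, 3, 5, 1, 2, 15, 3, 0, 4], 2), ([8, 3, 5, 1, 2, 15, 3, 0], 4), ([8, 3, 5, 1, 2, 15, 3], 0), ([8, 3, 5, 1], 2), ([], 8), ([], 65)]),
  ([7, 15, 6, 3, 5, 1, 2, 7, 14, 6, 3, 0, 4, 2, 5, 9, 7, 15, 6, 3, 5, 1, 2, 9, 15], [([14, 8, 3, 0, 4, 2, 7, 14, 6, 8, 4, 3, 5, 1, 2, 7, 15, 6, 3, 0, 4, 2, 7, 14], 6), ([14, 8, 3, 0, 4, 2, 7, 14, 6, 8, 4, 3, 5, 1, 2, 7, 15, 6, 3, 0, 4], 2), ([14, 8, 3, 0, 4, 2, 7, 14, 6, 8, 4, 3, 5, 1, 2, 7, 15, 6, 3, 0], 4), ([14, 8, 3, 0, 4, 2, 7, 14, 6, 8, 4, 3, 5, 1, 2, 7, 15, 6, 3], 0), ([14, 8, 3, 0, 4, 2, 7, 14, 6, 8, 4, 3, 5, 1, 2, 7, 15], 6), ([14, 8, 3, 0, 4, 2, 7, 14, 6, 8, 4, 3, 5, 1], 2), ([14, 8, 3, 0, 4, 2, 7, 14, 6, 8], 4), ([14, 8, 3, 0, 4, 2, 7, 14, 6], 8), ([14, 8, 3, 0, 4, 2,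 7, 14], 6), ([14, 8, 3, 0, 4], 2), ([14, 8, 3, 0], 4), ([14, 8, 3], 0), ([14], 8), ([], 67)]),
  ([9, 11, 11, 15, 10, 10, 8, 11, 11, 14, 10, 10], [([11, 11, 15, 10, 10, 9, 11, 11, 14, 10, 10], 8), ([], 71)]),
  ([6, 11, 11, 14, 10, 10, 6, 11, 11, 14, 10, 10, 6, 11, 11, 14, 10, 10, 6, 11, 11, 14, 9, 7, 5, 6, 8, 10, 10, 10, 9, 7, 5, 6, 8, 11, 7, 5, 6, 5, 1], [([0, 4, 7, 4, 6, 10, 9, 7, 4, 6, 8, 11, 11, 11, 9, 7, 4, 6], 8), ([0, 4, 7, 4, 6, 10, 9, 7, 4, 6, 8, 11, 11, 11, 9, 7, 4], 6), ([0, 4, 7, 4, 6, 10, 9, 7, 4, 6, 8, 11, 11, 11, 9, 7], 4), ([0, 4, 7, 4, 6, 10, 9, 7, 4, 6], 8), ([0, 4, 7, 4, 6, 10, 9, 7, 4], 6), ([0, 4, 7, 4, 6, 10, 9, 7], 4), ([0, 4, 7, 4], 6), ([0, 4, 7], 4), ([0], 4), ([], 0), ([], 77)])])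
  (by decide +kernel)
end H78.Th
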